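import Cfsg.Agent.H344.RR.HSRow
import Cfsg.Agent.H344.RR.FixT2
import Cfsg.Agent.H536.TC.Tools
import Cfsg.Agent.H904.TwoHS
import Cfsg.Agent.H715.Fpr.HS

/-!
# S3509: the row of the Higman-Sims group (helper344), end

* `no_cov'` : no cover in an environment with `N ≅ HS`;
* `noCov_hs`, `rc_hs`.
-/

set_option autoImplicit false
set_option linter.unusedSectionVars false

namespace Cfsg.Agent.H344.RR.HSF

open Cfsg.Agent.HN.Pres Cfsg.Agent.HN.HS100 Cfsg.Agent.HN.P1408 Cfsg.Agent.HN.H0Basic Cfsg.Agent.HN.AutBound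
open Cfsg.Agent.SporadicA.PermTab Cfsg.Agent.H106.RC
open Equiv Subgroup MulAction

/-! ### the possible lengths of orbits -/

theorem okp11 {n : ℕ} (h : Cfsg.Agent.H536.TC.okp 11 55 n = true) : n % 11 ≤ 5 := by
  unfold Cfsg.Agent.H536.TC.okp at h
  rw [Bool.or_eq_true, beq_iff_eq, List.any_eq_true] at h
  rcases h with h | ⟨f, hf, h⟩
  · omega
  · rw [Bool.and_eq_true, Bool.and_eq_true, beq_iff_eq] at h
    have h1 := List.mem_range.1 hf
    have h2 : n % 11 = f % 11 := by simpa using h.2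
    omega

def smallChk (n : ℕ) : Bool := Nat.blt n 25 || (44352000 % n != 0 || (!(Cfsg.Agent.H536.TC.okp 7 42 n) ||
  (!(Cfsg.Agent.H536.TC.okp 11 55 n) || [44, 45, 55, 56, 66, 77].contains n)))

theorem smallChk_all : ((List.range 82).all smallChk) = true := by decide +kernel

theorem small (n : ℕ) (hn : n < 82) (h25 : 25 ≤ n) (hd : 44352000 % n = 0) (h7 : Cfsg.Agent.H536.TC.okp 7 42 n = true)
    (h11 : Cfsg.Agent.H536.TC.okp 11 55 n = true) : n = 44 ∨ n = 45 ∨ n = 55 ∨ n = 56 ∨ n = 66 ∨ n = 77 := by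
  have h := List.all_eq_true.1 smallChk_all n (List.mem_range.2 hn)
  unfold smallChk at h
  rw [h7, h11, Bool.or_eq_true, Bool.or_eq_true, Nat.blt_eq] at h
  rcases h with h | h | h
  · omega
  · rw [bne_iff_ne] at h; exact absurd hd h
  · simpa using h

section

variable {G Ω : Type*} [Group G] [Finite G] [MulAction G Ω] [Finite Ω] {N : Subgroup G}

theorem le25 (hE : Env G Ω N) (hS : Cfsg.Spor.IsoHS N) (ω : Ω) : 25 ≤ No N ω := by
  have hsim := hE.simple
  have hf : FaithfulSMul N (orbit N ω) := by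
    have hk : (MulAction.toPermHom N (orbit N ω)).ker = ⊥ := by
      rcases hsim.eq_bot_or_eq_top_of_normal (MulAction.toPermHom N (orbit N ω)).ker inferInstance with h | h
      · exact h
      · exfalso
        refine hE.nofix ω fun n hn => ?_
        have h1 : (⟨n, hn⟩ : N) ∈ (MulAction.toPermHom N (orbit N ω)).ker := by rw [h]; trivial
        have h2 := Equiv.congr_fun (MonoidHom.mem_ker.1 h1) ⟨ω, mem_orbit_self ω⟩
        exact congrArg Subtype.val h2
    refine ⟨fun {a b} h => ?_⟩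
    have h1 : MulAction.toPermHom N (orbit N ω) a = MulAction.toPermHom N (orbit N ω) b := Equiv.ext h
    exact (MonoidHom.ker_eq_bot_iff _).1 hk h1
  have h1 := Cfsg.Agent.H904.TwoHS.le_card (X := orbit N ω) hS
  rwa [Nat.card_coe_set_eq] at h1

theorem card_hs (hS : Cfsg.Spor.IsoHS N) : Nat.card N = 44352000 := Cfsg.Agent.KFacts.HS.card hS

theorem lengths (hE : Env G Ω N) (hS : Cfsg.Spor.IsoHS N) (ω : Ω) :
    (82 ≤ No N ω ∨ No N ω = 44 ∨ No N ω = 45 ∨ No N ω = 55 ∨ No N ω = 56 ∨ No N ω = 66 ∨ No N ω = 77) ∧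
      No N ω % 11 ≤ 5 := by
  have hi : (stabilizer N ω).index = No N ω := index_stabilizer N ω
  have hN := card_hs hS
  have h7 := Cfsg.Agent.H536.TC.okp_index (p := 7) (N := 42) (by norm_num) (by rw [hN]; norm_num) (by rw [hN]; norm_num)
    (fun R hR => (Cfsg.Agent.H904.TwoHS.seven hS R hR).2) (stabilizer N ω)
  have h11 := Cfsg.Agent.H536.TC.okp_index (p := 11) (N := 55) (by norm_num) (by rw [hN]; norm_num) (by rw [hN]; norm_num)
    (fun R hR => by
      obtain ⟨-, -, H⟩ := Cfsg.Agent.H904.TwoHS.eleven hS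
      exact (H R hR).2) (stabilizer N ω)
  rw [hi] at h7 h11
  refine ⟨?_, okp11 h11⟩
  by_cases hlt : 82 ≤ No N ω
  · exact Or.inl hlt
  · right
    refine small _ (by omega) (le25 hE hS ω) ?_ h7 h11
    rw [← hN, ← hi]
    exact Nat.mod_eq_zero_of_dvd (Subgroup.index_dvd_card _)

end

section

variable {G Ω : Type*} [Group G] [Finite G] [MulAction G Ω] [Finite Ω] {N : Subgroup G} [hN : N.Normal]
  (hS : Cfsg.Spor.IsoHS N)

include hS

theorem E7 (ω : Ω) {x : G} (hx : x ∈ N) (h7 : x ^ 7 = 1) (h1 : x ≠ 1) : Fo N ω x = No N ω % 7 := by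
  have : Fact (Nat.Prime 7) := ⟨by norm_num⟩
  have ho : orderOf x = 7 := orderOf_eq_prime h7 h1
  have hm := fo_modEq N ω (by norm_num : (7).Prime) hx h7
  have hc := card_hs hS
  have hR : Nat.card (zpowers (⟨x, hx⟩ : N)) = 7 := by rw [Nat.card_zpowers, Subgroup.orderOf_mk, ho]
  have hle : Fo N ω x ≤ 6 := by
    rcases fo_sylow N ω (by norm_num : (7).Prime) hx ho (by rw [hc]; norm_num) with h | h
    · omega
    · rw [(Cfsg.Agent.H904.TwoHS.seven hS _ hR).2] at h
      have := Nat.le_of_dvd (by norm_num) h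
      omega
  unfold Nat.ModEq at hm
  omega

theorem E11 (ω : Ω) {x : G} (hx : x ∈ N) (h7 : x ^ 11 = 1) (h1 : x ≠ 1) : Fo N ω x = No N ω % 11 := by
  have : Fact (Nat.Prime 11) := ⟨by norm_num⟩
  have ho : orderOf x = 11 := orderOf_eq_prime h7 h1
  have hm := fo_modEq N ω (by norm_num : (11).Prime) hx h7
  have hc := card_hs hS
  have hR : Nat.card (zpowers (⟨x, hx⟩ : N)) = 11 := by rw [Nat.card_zpowers, Subgroup.orderOf_mk, ho]
  have hle : Fo N ω x ≤ 5 := by
    rcases fo_sylow N ω (by norm_num : (11).Prime) hx ho (by rw [hc]; norm_num) with h | h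
    · omega
    · obtain ⟨-, -, H⟩ := Cfsg.Agent.H904.TwoHS.eleven hS
      rw [(H _ hR).2] at h
      have := Nat.le_of_dvd (by norm_num) h
      omega
  unfold Nat.ModEq at hm
  omega

variable {ρ : G →* Perm (Fin 100)} (hR : Rho N ρ)
include hR

theorem E3 (ω : Ω) {x : G} (hx : x ∈ N) (h3 : x ^ 3 = 1) (h1 : x ≠ 1) : 7 * Fo N ω x ≤ No N ω + 6 * (No N ω % 7) := by
  obtain ⟨y', hy', g1, g2, g3⟩ := three_spec ((hR.mem x).2 hx) (by rw [← map_pow, h3, map_one])
    fun h => h1 (hR.inj (by rw [h, map_one]))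
  obtain ⟨y, hy, rfl⟩ := hR.surj y' hy'
  have h7 : y ^ 7 = 1 := hR.inj (by rw [map_pow, g2, map_one])
  have hy1 : y ≠ 1 := fun h => g1 (by rw [h, map_one])
  have hxy : x * y * x⁻¹ = y ^ 2 := hR.inj (by rw [map_mul, map_mul, map_inv, map_pow, g3])
  have h4 := fo_frob N ω hy (r := 7) (m := 2) (by norm_num) h7 hxy (by decide)
  have h5 := E7 hS ω hy h7 hy1
  rw [h5] at h4
  omega

theorem E5 (ω : Ω) {x : G} (hx : x ∈ N) (h3 : x ^ 5 = 1) (h1 : x ≠ 1) :
    2 * Fo N ω x ≤ No N ω + No N ω % 7 ∨ 2 * Fo N ω x ≤ No N ω + No N ω % 11 := by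
  obtain ⟨c', hc', g1, g2⟩ := five_spec ((hR.mem x).2 hx) (by rw [← map_pow, h3, map_one])
    fun h => h1 (hR.inj (by rw [h, map_one]))
  obtain ⟨c, hc, rfl⟩ := hR.surj c' hc'
  set w := x * (c * x * c⁻¹) with hw
  have hwρ : ρ w = ρ x * (ρ c * ρ x * (ρ c)⁻¹) := by rw [hw]; simp only [map_mul, map_inv]
  rw [← hwρ] at g1 g2
  have hwN : w ∈ N := mul_mem hx (mul_mem (mul_mem hc hx) (inv_mem hc))
  have hw1 : w ≠ 1 := fun h => g1 (by rw [h, map_one])
  have h4 := fo_mul N ω (x := x) hc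
  rw [← hw] at h4
  rcases g2 with g2 | g2
  · have h5 := E7 hS ω hwN (hR.inj (by rw [map_pow, g2, map_one])) hw1
    left; omega
  · have h5 := E11 hS ω hwN (hR.inj (by rw [map_pow, g2, map_one])) hw1
    right; omega

/-- **involutions** -/
theorem E2 (ω : Ω) {t : G} (h2 : t * t = 1) (h1 : t ≠ 1) :
    (t ∈ N ∧ ∃ u, 5 * Fo N ω t ≤ No N ω + 4 * u ∧ 11 * u ≤ No N ω + 10 * (No N ω % 11)) ∨
    7 * Fo N ω t ≤ No N ω + 6 * (No N ω % 7) ∨
    ((∃ u, 3 * Fo N ω t ≤ No N ω + 2 * u ∧ 7 * u ≤ No N ω + 6 * (No N ω % 7)) ∧ ∃ g ∈ autG 100 adjA, ρ t = g * Z * g⁻¹) := by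
  rcases inv_spec (hR.aut t) (by rw [← map_mul, h2, map_one]) (fun h => h1 (hR.inj (by rw [h, map_one]))) with h | h | h
  · left
    obtain ⟨h0, c', hc', w', hw', g1, g2, g3, g4, g5⟩ := h
    have htN := (hR.mem t).1 h0
    refine ⟨htN, ?_⟩
    obtain ⟨c, hc, rfl⟩ := hR.surj c' hc'
    obtain ⟨w, hw, rfl⟩ := hR.surj w' hw'
    set y := t * (c * t * c⁻¹) with hy
    have hyρ : ρ y = ρ t * (ρ c * ρ t * (ρ c)⁻¹) := by rw [hy]; simp only [map_mul, map_inv]
    rw [← hyρ] at g1 g2 g5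
    have hyN : y ∈ N := mul_mem htN (mul_mem (mul_mem hc htN) (inv_mem hc))
    have hy5 : y ^ 5 = 1 := hR.inj (by rw [map_pow, g2, map_one])
    have hti : t⁻¹ = t := inv_eq_of_mul_eq_one_left h2
    have hconj : t * y * t⁻¹ = y ^ 4 := by
      have h3 : y ^ 4 = y⁻¹ := by rw [eq_inv_iff_mul_eq_one, ← pow_succ, hy5]
      rw [h3, hy]
      have h4 : (t * (c * t * c⁻¹))⁻¹ = c * t⁻¹ * c⁻¹ * t⁻¹ := by group
      have h5 : t * (t * (c * t * c⁻¹)) * t⁻¹ = (t * t) * (c * t * c⁻¹) * t⁻¹ := by group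
      rw [h4, h5, h2, one_mul, hti]
    have h6 := fo_frob N ω hyN (r := 5) (m := 4) (by norm_num) hy5 hconj (by decide)
    have hw11 : w ^ 11 = 1 := hR.inj (by rw [map_pow, g4, map_one])
    have hyw : y * w * y⁻¹ = w ^ 9 := hR.inj (by rw [map_mul, map_mul, map_inv, map_pow, g5])
    have h7 := fo_frob N ω hw (r := 11) (m := 9) (by norm_num) hw11 hyw (by decide)
    have h8 := E11 hS ω hw hw11 (fun h => g3 (by rw [h, map_one]))
    rw [h8] at h7
    exact ⟨Fo N ω y, by omega, by omega⟩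
  · right; left
    obtain ⟨y, hyN, c, hc, hy, hy1, hyr, h3⟩ := FR hS hR ω h2 (by norm_num) (by norm_num) h
    have h4 := E7 hS ω hyN hyr hy1
    rw [h4] at h3
    omega
  · right; right
    obtain ⟨h, hg⟩ := h
    refine ⟨?_, hg⟩
    obtain ⟨y, hyN, c, hc, hy, hy1, hyr, h3⟩ := FR hS hR ω h2 (by norm_num) (by norm_num) h
    exact ⟨Fo N ω y, by omega, E3 hS hR ω hyN hyr hy1⟩

end

/-- **the counting argument** -/
theorem no_cov' {G Ω : Type*} [Group G] [Finite G] [MulAction G Ω] [Finite Ω] [Nonempty Ω] {N : Subgroup G}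
    (hE : Env G Ω N) (hS : Cfsg.Spor.IsoHS N)
    {ι : Type*} [Finite ι] {x : ι → G} {r : ι → ℕ} (hx : PF x r) (hc : Cov Ω x) : False := by
  classical
  have hN := hE.norm
  have := Fintype.ofFinite ι
  obtain ⟨ρ, hR⟩ := exists_Rho hS hE.cent
  obtain ⟨ω⟩ := ‹Nonempty Ω›
  obtain ⟨hn, hn11⟩ := lengths hE hS ω
  -- the primes
  have hord : ∀ i, orderOf (x i) = r i := fun i => by
    have : Fact (r i).Prime := ⟨hx.prime i⟩
    exact orderOf_eq_prime (hx.pow i) (hx.ne i)
  have hP : ∀ i, r i ∈ ({2, 3, 5, 7, 11} : Finset ℕ) := by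
    intro i
    have h1 : orderOf (ρ (x i)) = r i := by rw [orderOf_injective ρ hR.inj, hord]
    have h2 : r i ∣ 88704000 := by
      rw [← h1, ← card_autG, ← Subgroup.orderOf_mk (ρ (x i)) (hR.aut (x i))]
      exact orderOf_dvd_natCard _
    have h3 : (88704000 : ℕ) = 2 ^ 10 * (3 ^ 2 * (5 ^ 3 * (7 * 11))) := by norm_num
    rw [h3] at h2
    have hp := hx.prime i
    simp only [Finset.mem_insert, Finset.mem_singleton]
    rcases (hp.dvd_mul.1 h2) with h4 | h4
    · exact Or.inl ((Nat.prime_dvd_prime_iff_eq hp Nat.prime_two).1 (hp.dvd_of_dvd_pow h4))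
    rcases (hp.dvd_mul.1 h4) with h4 | h4
    · exact Or.inr (Or.inl ((Nat.prime_dvd_prime_iff_eq hp Nat.prime_three).1 (hp.dvd_of_dvd_pow h4)))
    rcases (hp.dvd_mul.1 h4) with h4 | h4
    · exact Or.inr (Or.inr (Or.inl ((Nat.prime_dvd_prime_iff_eq hp Nat.prime_five).1 (hp.dvd_of_dvd_pow h4))))
    rcases (hp.dvd_mul.1 h4) with h4 | h4
    · exact Or.inr (Or.inr (Or.inr (Or.inl ((Nat.prime_dvd_prime_iff_eq hp (by norm_num)).1 h4))))
    · exact Or.inr (Or.inr (Or.inr (Or.inr ((Nat.prime_dvd_prime_iff_eq hp (by norm_num)).1 h4))))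
  have hodd : ∀ i, r i ≠ 2 → x i ∈ N := fun i hi =>
    mem_N_of_odd hR ((hx.prime i).odd_of_ne_two hi) (hx.pow i)
  have hsum := cov_le N hc ω
  rw [sum_Tp N ω _ hP] at hsum
  have e5 : ∑ p ∈ ({2, 3, 5, 7, 11} : Finset ℕ), Tp N ω x r p =
      Tp N ω x r 2 + (Tp N ω x r 3 + (Tp N ω x r 5 + (Tp N ω x r 7 + Tp N ω x r 11))) := by
    rw [Finset.sum_insert (by decide), Finset.sum_insert (by decide), Finset.sum_insert (by decide),
      Finset.sum_insert (by decide), Finset.sum_singleton]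
  rw [e5] at hsum
  -- bounds
  have b3 : 7 * Tp N ω x r 3 ≤ No N ω + 6 * (No N ω % 7) := by
    by_cases h : ∃ i, r i = 3
    · obtain ⟨i, hi⟩ := h
      rw [← hi, Tp_eq N ω hx.inj i]
      exact E3 hS hR ω (hodd i (by omega)) (by rw [← hi]; exact hx.pow i) (hx.ne i)
    · push Not at h
      rw [Tp_zero N ω h]; omega
  have b5 : 2 * Tp N ω x r 5 ≤ No N ω + No N ω % 7 ∨ 2 * Tp N ω x r 5 ≤ No N ω + No N ω % 11 := by
    by_cases h : ∃ i, r i = 5
    · obtain ⟨i, hi⟩ := h
      rw [← hi, Tp_eq N ω hx.inj i]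
      exact E5 hS hR ω (hodd i (by omega)) (by rw [← hi]; exact hx.pow i) (hx.ne i)
    · push Not at h
      rw [Tp_zero N ω h]; omega
  have b7 : Tp N ω x r 7 ≤ No N ω % 7 := by
    by_cases h : ∃ i, r i = 7
    · obtain ⟨i, hi⟩ := h
      have := E7 hS ω (hodd i (by omega)) (by rw [← hi]; exact hx.pow i) (hx.ne i)
      rw [← this, ← hi, Tp_eq N ω hx.inj i]
    · push Not at h
      rw [Tp_zero N ω h]; omega
  have b11 : Tp N ω x r 11 ≤ No N ω % 11 := by
    by_cases h : ∃ i, r i = 11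
    · obtain ⟨i, hi⟩ := h
      have := E11 hS ω (hodd i (by omega)) (by rw [← hi]; exact hx.pow i) (hx.ne i)
      rw [← this, ← hi, Tp_eq N ω hx.inj i]
    · push Not at h
      rw [Tp_zero N ω h]; omega
  -- an element of order 7 or 11 commutes with no other element of odd order
  have hexcl : ∀ i, (r i = 7 ∨ r i = 11) → ∀ j, j ≠ i → r j = 2 := by
    intro i hi j hj
    by_contra hj2
    have hcard : Nat.card ↥(N ⊓ centralizer ({x i} : Set G)) = r i := by
      rcases hi with hi | hi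
      · rw [hi]; exact card7 hS (hodd i (by omega)) (by rw [← hi]; exact hx.pow i) (hx.ne i)
      · rw [hi]; exact card11 hS (hodd i (by omega)) (by rw [← hi]; exact hx.pow i) (hx.ne i)
    have hmem : x j ∈ N ⊓ centralizer ({x i} : Set G) :=
      ⟨hodd j hj2, mem_centralizer_singleton_iff.2 (hx.comm j i)⟩
    have h1 : orderOf (x j) ∣ r i := by
      rw [← hcard, ← Subgroup.orderOf_mk (x j) hmem]
      exact orderOf_dvd_natCard _
    rw [hord] at h1
    exact hj (hx.inj ((Nat.prime_dvd_prime_iff_eq (hx.prime j) (hx.prime i)).1 h1))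
  -- the involution
  have b2 : Tp N ω x r 2 = 0 ∨ (∃ i, r i = 2 ∧ x i ∈ N ∧ ∃ u, 5 * Tp N ω x r 2 ≤ No N ω + 4 * u ∧
        11 * u ≤ No N ω + 10 * (No N ω % 11)) ∨
      (7 * Tp N ω x r 2 ≤ No N ω + 6 * (No N ω % 7) ∧ ∃ i, r i = 2) ∨
      (∃ i, r i = 2 ∧ (∃ u, 3 * Tp N ω x r 2 ≤ No N ω + 2 * u ∧ 7 * u ≤ No N ω + 6 * (No N ω % 7)) ∧
        ∃ g ∈ autG 100 adjA, ρ (x i) = g * Z * g⁻¹) := by
    by_cases h : ∃ i, r i = 2
    · obtain ⟨i, hi⟩ := h
      have h2 : x i * x i = 1 := by rw [← pow_two, ← hi]; exact hx.pow i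
      have h3 : Tp N ω x r 2 = Fo N ω (x i) := by rw [← hi, Tp_eq N ω hx.inj i]
      rw [h3]
      right
      rcases E2 hS hR ω h2 (hx.ne i) with ⟨h4, h5⟩ | h4 | ⟨h4, h5⟩
      · exact Or.inl ⟨i, hi, h4, h5⟩
      · exact Or.inr (Or.inl ⟨h4, i, hi⟩)
      · exact Or.inr (Or.inr ⟨i, hi, h4, h5⟩)
    · push Not at h
      exact Or.inl (Tp_zero N ω h)
  have hb2 : 44 * Tp N ω x r 2 ≤ 21 * No N ω + 352 := by
    rcases b2 with h | ⟨-, -, -, u, h, h'⟩ | ⟨h, -⟩ | ⟨-, -, ⟨u, h, h'⟩, -⟩ <;> omega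
  by_cases h7 : ∃ i, r i = 7
  · obtain ⟨i, hi⟩ := h7
    have z : ∀ p, p ≠ 2 → p ≠ 7 → Tp N ω x r p = 0 := fun p hp hp7 => Tp_zero N ω fun j hj => by
      have hji : j ≠ i := by rintro rfl; omega
      exact hp (hj.symm.trans (hexcl i (Or.inl hi) j hji))
    rw [z 3 (by norm_num) (by norm_num), z 5 (by norm_num) (by norm_num), z 11 (by norm_num) (by norm_num)] at hsum
    omega
  by_cases h11 : ∃ i, r i = 11
  · obtain ⟨i, hi⟩ := h11
    have z : ∀ p, p ≠ 2 → p ≠ 11 → Tp N ω x r p = 0 := fun p hp hp7 => Tp_zero N ω fun j hj => by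
      have hji : j ≠ i := by rintro rfl; omega
      exact hp (hj.symm.trans (hexcl i (Or.inr hi) j hji))
    rw [z 3 (by norm_num) (by norm_num), z 5 (by norm_num) (by norm_num), z 7 (by norm_num) (by norm_num)] at hsum
    omega
  push Not at h7 h11
  rw [Tp_zero N ω h7, Tp_zero N ω h11] at hsum
  rcases b2 with h | ⟨i, hi, hiN, u, h, h'⟩ | ⟨h, i, hi⟩ | ⟨i, hi, ⟨u, h, h'⟩, g, hg, hgt⟩
  · omega
  · -- type 2A
    by_cases h3 : ∃ j, r j = 3
    · by_cases h5 : ∃ k, r k = 5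
      · obtain ⟨j, hj⟩ := h3
        obtain ⟨k, hk⟩ := h5
        exact no30 hS hR hiN (hodd j (by omega)) (hodd k (by omega)) (by rw [← hi]; exact hx.pow i) (hx.ne i)
          (by rw [← hj]; exact hx.pow j) (hx.ne j) (by rw [← hk]; exact hx.pow k) (hx.ne k) (hx.comm i j) (hx.comm i k)
          (hx.comm j k)
      · push Not at h5
        rw [Tp_zero N ω h5] at hsum
        omega
    · push Not at h3
      rw [Tp_zero N ω h3] at hsum
      omega
  · -- type 7
    by_cases h55 : No N ω = 55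
    swap
    · omega
    by_cases h3 : ∃ j, r j = 3
    · by_cases h5 : ∃ k, r k = 5
      · obtain ⟨j, hj⟩ := h3
        obtain ⟨k, hk⟩ := h5
        have hjN := hodd j (by omega)
        have hkN := hodd k (by omega)
        have e3 : Tp N ω x r 3 = Fo N ω (x j) := by rw [← hj, Tp_eq N ω hx.inj j]
        have e5' : Tp N ω x r 5 = Fo N ω (x k) := by rw [← hk, Tp_eq N ω hx.inj k]
        have e2 : Tp N ω x r 2 = Fo N ω (x i) := by rw [← hi, Tp_eq N ω hx.inj i]
        have m3 := fo_modEq N ω (by norm_num : (3).Prime) hjN (by rw [← hj]; exact hx.pow j)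
        have m5 := fo_modEq N ω (by norm_num : (5).Prime) hkN (by rw [← hk]; exact hx.pow k)
        have m35 := fo_mod N ω (by norm_num : (5).Prime) hkN (by rw [← hk]; exact hx.pow k) (y := x j) (hx.comm k j)
        unfold Nat.ModEq at m3 m5 m35
        have hcov : orbit N ω ⊆ Fs N ω (x i) ∪ (Fs N ω (x j) ∪ Fs N ω (x k)) := by
          intro u hu
          obtain ⟨l, hl⟩ := hc u
          have h6 := hP l
          simp only [Finset.mem_insert, Finset.mem_singleton] at h6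
          rcases h6 with h6 | h6 | h6 | h6 | h6
          · left; rw [hx.inj (hi.trans h6.symm)]; exact ⟨hu, hl⟩
          · right; left; rw [hx.inj (hj.trans h6.symm)]; exact ⟨hu, hl⟩
          · right; right; rw [hx.inj (hk.trans h6.symm)]; exact ⟨hu, hl⟩
          · exact absurd h6 (h7 l)
          · exact absurd h6 (h11 l)
        have hun := cov_union N ω hcov
        rw [e3] at b3
        rw [e5'] at b5
        rw [e2] at h
        change No N ω + _ ≤ Fo N ω (x i) + Fo N ω (x j) + Fo N ω (x k) at hun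
        omega
      · push Not at h5
        rw [Tp_zero N ω h5] at hsum
        omega
    · push Not at h3
      rw [Tp_zero N ω h3] at hsum
      omega
  · -- type 2C
    by_cases h5 : ∃ k, r k = 5
    · obtain ⟨k, hk⟩ := h5
      have hkN := hodd k (by omega)
      have hki : k ≠ i := by rintro rfl; omega
      -- the element of order 3, if any
      obtain ⟨s, hsN, hs3, hsk, hsi, hsj⟩ : ∃ s ∈ N, s ^ 3 = 1 ∧ x k * s = s * x k ∧ s * x i = x i * s ∧
          ∀ j, r j = 3 → x j = s := by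
        by_cases h3 : ∃ j, r j = 3
        · obtain ⟨j, hj⟩ := h3
          exact ⟨x j, hodd j (by omega), by rw [← hj]; exact hx.pow j, hx.comm k j, hx.comm j i, fun j' hj' => by
            rw [hx.inj (hj'.trans hj.symm)]⟩
        · push Not at h3
          exact ⟨1, one_mem _, one_pow _, by rw [mul_one, one_mul], by rw [mul_one, one_mul], fun j hj =>
            absurd hj (h3 j)⟩
      obtain ⟨c', hc', g1, g2, g3, g4⟩ := r5_spec hg hgt ((hR.mem _).2 hkN) ((hR.mem _).2 hsN)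
        (by rw [← map_pow, ← hk, hx.pow, map_one]) (fun h => hx.ne k (hR.inj (by rw [h, map_one])))
        (by rw [← map_pow, hs3, map_one]) (by rw [← map_mul, ← map_mul, hsk])
        (by rw [← map_mul, ← map_mul, hx.comm]) (by rw [← map_mul, ← map_mul, hsi])
      obtain ⟨c, hcN, rfl⟩ := hR.surj c' hc'
      have k1 : c * x i = x i * c := hR.inj (by rw [map_mul, map_mul, g1])
      have k2 : c * s = s * c := hR.inj (by rw [map_mul, map_mul, g2])
      set y := x k * (c * x k * c⁻¹) with hy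
      have hyρ : ρ y = ρ (x k) * (ρ c * ρ (x k) * (ρ c)⁻¹) := by rw [hy]; simp only [map_mul, map_inv]
      rw [← hyρ] at g3 g4
      have hyN : y ∈ N := mul_mem hkN (mul_mem (mul_mem hcN hkN) (inv_mem hcN))
      have hy3 : y ^ 3 = 1 := hR.inj (by rw [map_pow, g3, map_one])
      have hy1 : y ≠ 1 := fun h => g4 (by rw [h, map_one])
      have hcc : ∀ j, j ≠ k → c * x j = x j * c := by
        intro j hjk
        have h6 := hP j
        simp only [Finset.mem_insert, Finset.mem_singleton] at h6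
        rcases h6 with h6 | h6 | h6 | h6 | h6
        · rw [hx.inj (h6.trans hi.symm)]; exact k1
        · rw [hsj j h6]; exact k2
        · exact absurd (hx.inj (h6.trans hk.symm)) hjk
        · exact absurd h6 (h7 j)
        · exact absurd h6 (h11 j)
      have hcov' := hc.mv k (y := y) (mul_mem (subset_closure ⟨1, fun j _ => by rw [one_mul, mul_one], by group⟩)
        (subset_closure ⟨c, hcc, rfl⟩))
      have hs' := cov_le N hcov' ω
      have e1 : ∑ j, Fo N ω (Function.update x k y j) = Fo N ω y + ∑ j ∈ Finset.univ.erase k, Fo N ω (x j) := by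
        rw [← Finset.add_sum_erase _ _ (Finset.mem_univ k), Function.update_self]
        congr 1
        refine Finset.sum_congr rfl fun j hj => ?_
        rw [Function.update_of_ne (Finset.ne_of_mem_erase hj)]
      have e2 : ∑ j, Fo N ω (x j) = Fo N ω (x k) + ∑ j ∈ Finset.univ.erase k, Fo N ω (x j) :=
        (Finset.add_sum_erase _ _ (Finset.mem_univ k)).symm
      have e3 : ∑ j, Fo N ω (x j) = Tp N ω x r 2 + (Tp N ω x r 3 + (Fo N ω (x k) + (0 + 0))) := by
        rw [sum_Tp N ω _ hP, e5, Tp_zero N ω h7, Tp_zero N ω h11, ← hk, Tp_eq N ω hx.inj k]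
      have e4 := E3 hS hR ω hyN hy3 hy1
      rw [e1] at hs'
      omega
    · push Not at h5
      rw [Tp_zero N ω h5] at hsum
      omega

/-! ### The row -/

theorem isoHS_congr {A B : Type*} [Group A] [Group B] (e : A ≃* B) (h : Cfsg.Spor.IsoHS B) : Cfsg.Spor.IsoHS A := by
  obtain ⟨f⟩ := h
  exact ⟨e.trans f⟩

/-- **no covers** -/
theorem noCov_hs {S : Type} [Group S] (h : Cfsg.Spor.IsoHS S) : NoCov S := by
  intro G _ _ Ω _ _ _ N hE e ι _ x r hx hc _
  exact no_cov' hE (isoHS_congr e h) hx hc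

/-- **S3509, `HS`** -/
theorem rc_hs {S : Type} [Group S] [Finite S] (hs : IsSimpleGroup S) (hn : ¬ IsMulCommutative S)
    (h : Cfsg.Spor.IsoHS S) : RC S := rc_of_noCov hs hn (noCov_hs h)

end Cfsg.Agent.H344.RR.HSF
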