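import Cfsg.Agent.H344.RR.HSFive
import Cfsg.Agent.H344.RR.FixT
import Cfsg.Agent.H904.HSIso
import Cfsg.Agent.H536.TC.RowHS

/-!
# Higman-Sims: the action of `G` (`N ≅ HS` normal, `C(N) = 1`) on 100 points (helper344)
-/

set_option autoImplicit false

namespace Cfsg.Agent.H344.RR.HSF

open Cfsg.Agent.HN.Pres Cfsg.Agent.HN.HS100 Cfsg.Agent.HN.P1408 Cfsg.Agent.HN.H0Basic Cfsg.Agent.HN.AutBound
open Cfsg.Agent.SporadicA.PermTab Cfsg.Agent.HN.Classes
open Equiv Subgroup

/-- uniqueness -/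
theorem perm_unique {p q : Perm (Fin 100)} (h : ∀ x : Q, p * x * p⁻¹ = q * x * q⁻¹) : p = q := by
  have h1 : q⁻¹ * p = 1 := by
    refine Cfsg.Agent.HN.AutHS.eq_one_of_comm fun x hx => ?_
    have h2 := h ⟨x, hx⟩
    calc q⁻¹ * p * x = q⁻¹ * (p * x * p⁻¹) * p := by group
      _ = q⁻¹ * (q * x * q⁻¹) * p := by rw [h2]
      _ = x * (q⁻¹ * p) := by group
  exact (inv_mul_eq_one.1 h1).symm

/-- **the homomorphism** -/
theorem exists_rho {G : Type*} [Group G] {N : Subgroup G} [hN : N.Normal] (e : N ≃* Q)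
    (hC : centralizer (N : Set G) = ⊥) : ∃ ρ : G →* Perm (Fin 100), Function.Injective ρ ∧
      (∀ g, ρ g ∈ autG 100 adjA) ∧ (∀ g, ρ g ∈ Q ↔ g ∈ N) ∧ (∀ n : N, ρ n = e n) := by
  -- the automorphism of `Q` induced by `g`
  let σ : G → (Q ≃* Q) := fun g => (e.symm.trans (MulAut.conjNormal g : MulAut N)).trans e
  have hσ : ∀ (g : G) (n : N), σ g (e n) = e (MulAut.conjNormal g n) := by
    intro g n
    show e (MulAut.conjNormal g (e.symm (e n))) = _
    rw [MulEquiv.symm_apply_apply]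
  choose p hp1 hp2 using fun g => Cfsg.Agent.HN.AutHS.exists_perm (σ g)
  have hmul : ∀ g h, p (g * h) = p g * p h := by
    intro g h
    refine perm_unique fun x => ?_
    obtain ⟨n, rfl⟩ := e.surjective x
    have h1 : p g * p h * (e n : Perm (Fin 100)) * (p g * p h)⁻¹ = p g * (p h * e n * (p h)⁻¹) * (p g)⁻¹ := by group
    rw [← hp2, hσ, h1, ← hp2, hσ, ← hp2, hσ, map_mul]
    rfl
  have hone : p 1 = 1 := by
    have := hmul 1 1
    rw [one_mul] at this
    exact mul_eq_right.1 this.symm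
  let ρ : G →* Perm (Fin 100) := { toFun := p, map_one' := hone, map_mul' := hmul }
  have hρn : ∀ n : N, ρ n = e n := by
    intro n
    refine perm_unique fun x => ?_
    obtain ⟨m, rfl⟩ := e.surjective x
    change p n * (e m : Perm (Fin 100)) * (p n)⁻¹ = _
    rw [← hp2, hσ]
    have h1 : (MulAut.conjNormal (n : G) m : N) = n * m * n⁻¹ := by
      apply Subtype.ext
      rw [MulAut.conjNormal_apply]; rfl
    rw [h1, map_mul, map_mul, map_inv]
    rfl
  have hinj : Function.Injective ρ := by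
    rw [injective_iff_map_eq_one]
    intro g hg
    have h1 : g ∈ centralizer (N : Set G) := by
      rw [mem_centralizer_iff]
      intro n hn
      have h2 := hp2 g (e ⟨n, hn⟩)
      have h3 : p g = 1 := hg
      rw [hσ, h3, one_mul, inv_one, mul_one] at h2
      have h4 := congrArg Subtype.val (e.injective (Subtype.ext h2))
      rw [MulAut.conjNormal_apply] at h4
      have h5 : g * n * g⁻¹ = n := h4
      exact (mul_inv_eq_iff_eq_mul.1 h5).symm
    rw [hC] at h1
    exact h1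
  refine ⟨ρ, hinj, hp1, fun g => ⟨fun hg => ?_, fun hg => ?_⟩, hρn⟩
  · obtain ⟨n, hn⟩ := e.surjective ⟨ρ g, hg⟩
    have h1 : ρ g = ρ n := by rw [hρn, hn]
    rw [hinj h1]
    exact n.2
  · have := hρn ⟨g, hg⟩
    change ρ g = _ at this
    rw [this]
    exact Subtype.property _

/-- elements of odd order are in `N` -/
theorem mem_of_odd {g : Perm (Fin 100)} (hg : g ∈ autG 100 adjA) {m : ℕ} (hm : Odd m) (h : g ^ m = 1) : g ∈ Q := by
  rw [mem_Q_iff]
  refine ⟨hg, ?_⟩
  have h1 : Perm.sign g ^ m = 1 := by rw [← map_pow, h, map_one]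
  obtain ⟨k, rfl⟩ := hm
  rw [pow_succ, pow_mul, Int.units_sq, one_pow, one_mul] at h1
  exact h1

end Cfsg.Agent.H344.RR.HSF
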