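import Cfsg.Agent.H344.RR.HSRho

/-!
# S3509: the row of the Higman-Sims group (helper344)

Counting on an orbit of `N ≅ HS` of length at least 82.
-/

set_option autoImplicit false
set_option linter.unusedSectionVars false

namespace Cfsg.Agent.H344.RR.HSF

open Cfsg.Agent.HN.Pres Cfsg.Agent.HN.HS100 Cfsg.Agent.HN.P1408 Cfsg.Agent.HN.H0Basic Cfsg.Agent.HN.AutBound
open Cfsg.Agent.SporadicA.PermTab Cfsg.Agent.H106.RC
open Equiv Subgroup MulAction

section

variable {G Ω : Type*} [Group G] [Finite G] [MulAction G Ω] [Finite Ω] {N : Subgroup G} [hN : N.Normal]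
  (hS : Cfsg.Spor.IsoHS N)

/-- the data -/
structure Rho (N : Subgroup G) (ρ : G →* Perm (Fin 100)) : Prop where
  inj : Function.Injective ρ
  aut : ∀ g, ρ g ∈ autG 100 adjA
  mem : ∀ g, ρ g ∈ Q ↔ g ∈ N
  surj : ∀ q ∈ Q, ∃ n ∈ N, ρ n = q

include hS

theorem exists_Rho (hC : centralizer (N : Set G) = ⊥) : ∃ ρ : G →* Perm (Fin 100), Rho N ρ := by
  obtain ⟨f⟩ := hS
  obtain ⟨⟨f'⟩, -⟩ := Cfsg.Agent.HN.AutHS.nonempty_Q
  let e : N ≃* Q := f.trans f'.symm
  obtain ⟨ρ, h1, h2, h3, h4⟩ := exists_rho e hC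
  refine ⟨ρ, h1, h2, h3, fun q hq => ?_⟩
  obtain ⟨n, hn⟩ := e.surjective ⟨q, hq⟩
  exact ⟨n, n.2, by rw [h4, hn]⟩

theorem card_inf {x : G} (hx : x ∈ N) : Nat.card ↥(N ⊓ centralizer ({x} : Set G)) =
    Nat.card (centralizer ({(⟨x, hx⟩ : N)} : Set N)) := by
  refine Nat.card_congr ⟨fun y => ⟨⟨y, y.2.1⟩, ?_⟩, fun y => ⟨y.1, y.1.2, ?_⟩, fun y => rfl, fun y => rfl⟩
  · rw [mem_centralizer_singleton_iff]
    exact Subtype.ext (mem_centralizer_singleton_iff.1 y.2.2)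
  · have := mem_centralizer_singleton_iff.1 y.2
    exact mem_centralizer_singleton_iff.2 (congrArg Subtype.val this)

theorem card7 {x : G} (hx : x ∈ N) (h7 : x ^ 7 = 1) (h1 : x ≠ 1) : Nat.card ↥(N ⊓ centralizer ({x} : Set G)) = 7 := by
  have : Fact (Nat.Prime 7) := ⟨by norm_num⟩
  rw [card_inf hS hx]
  exact Cfsg.Agent.H904.HSIso.card_seven hS (orderOf_eq_prime (Subtype.ext h7) fun h => h1 (congrArg Subtype.val h))

theorem card11 {x : G} (hx : x ∈ N) (h7 : x ^ 11 = 1) (h1 : x ≠ 1) :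
    Nat.card ↥(N ⊓ centralizer ({x} : Set G)) = 11 := by
  have : Fact (Nat.Prime 11) := ⟨by norm_num⟩
  rw [card_inf hS hx]
  exact Cfsg.Agent.H904.HSIso.card_eleven hS (orderOf_eq_prime (Subtype.ext h7) fun h => h1 (congrArg Subtype.val h))

theorem F7 (ω : Ω) {x : G} (hx : x ∈ N) (h7 : x ^ 7 = 1) (h1 : x ≠ 1) : Fo N ω x ≤ 7 :=
  (fo_le_cent N ω x).trans (card7 hS hx h7 h1).le

theorem F11 (ω : Ω) {x : G} (hx : x ∈ N) (h7 : x ^ 11 = 1) (h1 : x ≠ 1) : Fo N ω x ≤ 11 :=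
  (fo_le_cent N ω x).trans (card11 hS hx h7 h1).le

variable {ρ : G →* Perm (Fin 100)} (hR : Rho N ρ)
include hR

theorem F3 (ω : Ω) {x : G} (hx : x ∈ N) (h3 : x ^ 3 = 1) (h1 : x ≠ 1) : 7 * Fo N ω x ≤ No N ω + 42 := by
  obtain ⟨y', hy', g1, g2, g3⟩ := three_spec ((hR.mem x).2 hx) (by rw [← map_pow, h3, map_one])
    fun h => h1 (hR.inj (by rw [h, map_one]))
  obtain ⟨y, hy, rfl⟩ := hR.surj y' hy'
  have h7 : y ^ 7 = 1 := hR.inj (by rw [map_pow, g2, map_one])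
  have hy1 : y ≠ 1 := fun h => g1 (by rw [h, map_one])
  have hxy : x * y * x⁻¹ = y ^ 2 := hR.inj (by rw [map_mul, map_mul, map_inv, map_pow, g3])
  have h4 := fo_frob N ω hy (r := 7) (m := 2) (by norm_num) h7 hxy (by decide)
  have h5 := F7 hS ω hy h7 hy1
  omega

theorem F5 (ω : Ω) {x : G} (hx : x ∈ N) (h3 : x ^ 5 = 1) (h1 : x ≠ 1) : 2 * Fo N ω x ≤ No N ω + 11 := by
  obtain ⟨c', hc', g1, g2⟩ := five_spec ((hR.mem x).2 hx) (by rw [← map_pow, h3, map_one])
    fun h => h1 (hR.inj (by rw [h, map_one]))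
  obtain ⟨c, hc, rfl⟩ := hR.surj c' hc'
  set w := x * (c * x * c⁻¹) with hw
  have hwρ : ρ w = ρ x * (ρ c * ρ x * (ρ c)⁻¹) := by rw [hw]; simp only [map_mul, map_inv]
  rw [← hwρ] at g1 g2
  have hwN : w ∈ N := mul_mem hx (mul_mem (mul_mem hc hx) (inv_mem hc))
  have hw1 : w ≠ 1 := fun h => g1 (by rw [h, map_one])
  have h4 := fo_mul N ω (x := x) hc
  rw [← hw] at h4
  rcases g2 with g2 | g2
  · have h5 := F7 hS ω hwN (hR.inj (by rw [map_pow, g2, map_one])) hw1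
    omega
  · have h5 := F11 hS ω hwN (hR.inj (by rw [map_pow, g2, map_one])) hw1
    omega

/-- an involution inverting an element of order `r` -/
theorem FR (ω : Ω) {t : G} (h2 : t * t = 1) {r : ℕ} (hr : r.Prime) (hr2 : r ≠ 2) (h : InvR r (ρ t)) :
    ∃ y ∈ N, ∃ c ∈ N, y = t * (c * t * c⁻¹) ∧ y ≠ 1 ∧ y ^ r = 1 ∧ r * Fo N ω t ≤ No N ω + (r - 1) * Fo N ω y := by
  obtain ⟨c', hc', g1, g2⟩ := h
  obtain ⟨c, hc, rfl⟩ := hR.surj c' hc'
  set w := t * (c * t * c⁻¹) with hw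
  have hwρ : ρ w = ρ t * (ρ c * ρ t * (ρ c)⁻¹) := by rw [hw]; simp only [map_mul, map_inv]
  rw [← hwρ] at g1 g2
  have hwN : w ∈ N := (hR.mem w).1 (mem_of_odd (hR.aut w) (hr.odd_of_ne_two hr2) g2)
  have hw1 : w ≠ 1 := fun h => g1 (by rw [h, map_one])
  have hwr : w ^ r = 1 := hR.inj (by rw [map_pow, g2, map_one])
  have hti : t⁻¹ = t := inv_eq_of_mul_eq_one_left h2
  have hconj : t * w * t⁻¹ = w ^ (r - 1) := by
    have h3 : w ^ (r - 1) = w⁻¹ := by
      rw [eq_inv_iff_mul_eq_one, ← pow_succ, Nat.sub_add_cancel hr.one_le, hwr]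
    rw [h3, hw]
    have h4 : (t * (c * t * c⁻¹))⁻¹ = c * t⁻¹ * c⁻¹ * t⁻¹ := by group
    have h5 : t * (t * (c * t * c⁻¹)) * t⁻¹ = (t * t) * (c * t * c⁻¹) * t⁻¹ := by group
    rw [h4, h5, h2, one_mul, hti]
  have hm : ((r - 1 : ℕ) : ZMod r) ≠ 1 := by
    rw [Nat.cast_sub hr.one_le, ZMod.natCast_self, Nat.cast_one, zero_sub]
    intro h
    have : Fact r.Prime := ⟨hr⟩
    have : Fact (2 < r) := ⟨lt_of_le_of_ne hr.two_le (Ne.symm hr2)⟩
    exact ZMod.neg_one_ne_one h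
  exact ⟨w, hwN, c, hc, rfl, hw1, hwr, fo_frob N ω hwN hr hwr hconj hm⟩

/-- **involutions** -/
theorem F2 (ω : Ω) {t : G} (h2 : t * t = 1) (h1 : t ≠ 1) :
    (t ∈ N ∧ ∃ u, 5 * Fo N ω t ≤ No N ω + 4 * u ∧ 11 * u ≤ No N ω + 110) ∨ 7 * Fo N ω t ≤ No N ω + 42 ∨
    ((∃ u, 3 * Fo N ω t ≤ No N ω + 2 * u ∧ 7 * u ≤ No N ω + 42) ∧ ∃ g ∈ autG 100 adjA, ρ t = g * Z * g⁻¹) := by
  rcases inv_spec (hR.aut t) (by rw [← map_mul, h2, map_one]) (fun h => h1 (hR.inj (by rw [h, map_one]))) with h | h | h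
  · left
    obtain ⟨h0, c', hc', w', hw', g1, g2, g3, g4, g5⟩ := h
    have htN := (hR.mem t).1 h0
    refine ⟨htN, ?_⟩
    obtain ⟨c, hc, rfl⟩ := hR.surj c' hc'
    obtain ⟨w, hw, rfl⟩ := hR.surj w' hw'
    set y := t * (c * t * c⁻¹) with hy
    have hyρ : ρ y = ρ t * (ρ c * ρ t * (ρ c)⁻¹) := by rw [hy]; simp only [map_mul, map_inv]
    rw [← hyρ] at g1 g2 g5
    have hyN : y ∈ N := mul_mem htN (mul_mem (mul_mem hc htN) (inv_mem hc))
    have hy5 : y ^ 5 = 1 := hR.inj (by rw [map_pow, g2, map_one])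
    have hti : t⁻¹ = t := inv_eq_of_mul_eq_one_left h2
    have hconj : t * y * t⁻¹ = y ^ 4 := by
      have h3 : y ^ 4 = y⁻¹ := by rw [eq_inv_iff_mul_eq_one, ← pow_succ, hy5]
      rw [h3, hy]
      have h4 : (t * (c * t * c⁻¹))⁻¹ = c * t⁻¹ * c⁻¹ * t⁻¹ := by group
      have h5 : t * (t * (c * t * c⁻¹)) * t⁻¹ = (t * t) * (c * t * c⁻¹) * t⁻¹ := by group
      rw [h4, h5, h2, one_mul, hti]
    have h6 := fo_frob N ω hyN (r := 5) (m := 4) (by norm_num) hy5 hconj (by decide)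
    have hw11 : w ^ 11 = 1 := hR.inj (by rw [map_pow, g4, map_one])
    have hyw : y * w * y⁻¹ = w ^ 9 := hR.inj (by rw [map_mul, map_mul, map_inv, map_pow, g5])
    have h7 := fo_frob N ω hw (r := 11) (m := 9) (by norm_num) hw11 hyw (by decide)
    have h8 := F11 hS ω hw hw11 (fun h => g3 (by rw [h, map_one]))
    exact ⟨Fo N ω y, by omega, by omega⟩
  · right; left
    obtain ⟨y, hyN, c, hc, hy, hy1, hyr, h3⟩ := FR hS hR ω h2 (by norm_num) (by norm_num) h
    have h4 := F7 hS ω hyN hyr hy1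
    omega
  · right; right
    obtain ⟨h, hg⟩ := h
    refine ⟨?_, hg⟩
    obtain ⟨y, hyN, c, hc, hy, hy1, hyr, h3⟩ := FR hS hR ω h2 (by norm_num) (by norm_num) h
    exact ⟨Fo N ω y, by omega, F3 hS hR ω hyN hyr hy1⟩

omit hS in
/-- elements of odd order are in `N` -/
theorem mem_N_of_odd {x : G} {m : ℕ} (hm : Odd m) (h : x ^ m = 1) : x ∈ N :=
  (hR.mem x).1 (mem_of_odd (hR.aut x) hm (by rw [← map_pow, h, map_one]))

/-- no element of `N` of order 30 -/
theorem no30 {t x y : G} (ht : t ∈ N) (hx : x ∈ N) (hy : y ∈ N) (h2 : t ^ 2 = 1) (t1 : t ≠ 1) (h3 : x ^ 3 = 1) (x1 : x ≠ 1)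
    (h5 : y ^ 5 = 1) (y1 : y ≠ 1) (htx : t * x = x * t) (hty : t * y = y * t) (hxy : x * y = y * x) : False := by
  obtain ⟨f⟩ := hS
  have : Fact (Nat.Prime 2) := ⟨by norm_num⟩
  have : Fact (Nat.Prime 3) := ⟨by norm_num⟩
  have : Fact (Nat.Prime 5) := ⟨by norm_num⟩
  have o2 : orderOf t = 2 := orderOf_eq_prime h2 t1
  have o3 : orderOf x = 3 := orderOf_eq_prime h3 x1
  have o5 : orderOf y = 5 := orderOf_eq_prime h5 y1
  have c1 : Commute t x := htx
  have o6 : orderOf (t * x) = 6 := by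
    rw [c1.orderOf_mul_eq_mul_orderOf_of_coprime (by rw [o2, o3]; norm_num), o2, o3]
  have c2 : Commute (t * x) y := (show Commute t y from hty).mul_left hxy
  have o30 : orderOf (t * x * y) = 30 := by
    rw [c2.orderOf_mul_eq_mul_orderOf_of_coprime (by rw [o6, o5]; norm_num), o6, o5]
  have hm : t * x * y ∈ N := mul_mem (mul_mem ht hx) hy
  have h6 : orderOf (f ⟨t * x * y, hm⟩) = 30 := by
    rw [MulEquiv.orderOf_eq, ← o30]
    exact Subgroup.orderOf_mk _ _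
  have h7 := Cfsg.Agent.H536.TC.orders_hs (f ⟨t * x * y, hm⟩)
  rw [h6] at h7
  revert h7
  decide

end

/-! ### the row -/

/-- the sum over the members of the cover of order `p` -/
noncomputable def Tp {G Ω ι : Type*} [Group G] [MulAction G Ω] [Fintype ι] (N : Subgroup G) (ω : Ω) (x : ι → G)
    (r : ι → ℕ) (p : ℕ) : ℕ := ∑ i, if r i = p then Fo N ω (x i) else 0

theorem Tp_eq {G Ω ι : Type*} [Group G] [MulAction G Ω] [Fintype ι] (N : Subgroup G) (ω : Ω) {x : ι → G}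
    {r : ι → ℕ} (hr : Function.Injective r) (i : ι) : Tp N ω x r (r i) = Fo N ω (x i) := by
  classical
  unfold Tp
  rw [Finset.sum_eq_single i]
  · rw [if_pos rfl]
  · intro j _ hj
    rw [if_neg fun h => hj (hr h)]
  · intro h
    exact absurd (Finset.mem_univ i) h

theorem Tp_zero {G Ω ι : Type*} [Group G] [MulAction G Ω] [Fintype ι] (N : Subgroup G) (ω : Ω) {x : ι → G}
    {r : ι → ℕ} {p : ℕ} (h : ∀ i, r i ≠ p) : Tp N ω x r p = 0 := by
  unfold Tp
  exact Finset.sum_eq_zero fun i _ => if_neg (h i)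

theorem sum_Tp {G Ω ι : Type*} [Group G] [MulAction G Ω] [Fintype ι] (N : Subgroup G) (ω : Ω) {x : ι → G}
    {r : ι → ℕ} (P : Finset ℕ) (h : ∀ i, r i ∈ P) : ∑ i, Fo N ω (x i) = ∑ p ∈ P, Tp N ω x r p := by
  classical
  unfold Tp
  rw [Finset.sum_comm]
  refine Finset.sum_congr rfl fun i _ => ?_
  rw [Finset.sum_ite_eq, if_pos (h i)]

/-- **the counting argument** -/
theorem no_cov {G Ω : Type*} [Group G] [Finite G] [MulAction G Ω] [Finite Ω] [Nonempty Ω] {N : Subgroup G}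
    (hE : Env G Ω N) (hS : Cfsg.Spor.IsoHS N) (hidx : ∀ H : Subgroup N, H ≠ ⊤ → 82 ≤ H.index)
    {ι : Type*} [Finite ι] {x : ι → G} {r : ι → ℕ} (hx : PF x r) (hc : Cov Ω x) : False := by
  classical
  have hN := hE.norm
  have := Fintype.ofFinite ι
  obtain ⟨ρ, hR⟩ := exists_Rho hS hE.cent
  obtain ⟨ω⟩ := ‹Nonempty Ω›
  have hn : 82 ≤ No N ω := by
    have := Cfsg.Agent.H867.RC.le_orbit hE hidx ω
    rwa [Nat.card_coe_set_eq] at this
  -- the primes
  have hord : ∀ i, orderOf (x i) = r i := fun i => by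
    have : Fact (r i).Prime := ⟨hx.prime i⟩
    exact orderOf_eq_prime (hx.pow i) (hx.ne i)
  have hP : ∀ i, r i ∈ ({2, 3, 5, 7, 11} : Finset ℕ) := by
    intro i
    have h1 : orderOf (ρ (x i)) = r i := by rw [orderOf_injective ρ hR.inj, hord]
    have h2 : r i ∣ 88704000 := by
      rw [← h1, ← card_autG, ← Subgroup.orderOf_mk (ρ (x i)) (hR.aut (x i))]
      exact orderOf_dvd_natCard _
    have h3 : (88704000 : ℕ) = 2 ^ 10 * (3 ^ 2 * (5 ^ 3 * (7 * 11))) := by norm_num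
    rw [h3] at h2
    have hp := hx.prime i
    simp only [Finset.mem_insert, Finset.mem_singleton]
    rcases (hp.dvd_mul.1 h2) with h4 | h4
    · exact Or.inl ((Nat.prime_dvd_prime_iff_eq hp Nat.prime_two).1 (hp.dvd_of_dvd_pow h4))
    rcases (hp.dvd_mul.1 h4) with h4 | h4
    · exact Or.inr (Or.inl ((Nat.prime_dvd_prime_iff_eq hp Nat.prime_three).1 (hp.dvd_of_dvd_pow h4)))
    rcases (hp.dvd_mul.1 h4) with h4 | h4
    · exact Or.inr (Or.inr (Or.inl ((Nat.prime_dvd_prime_iff_eq hp Nat.prime_five).1 (hp.dvd_of_dvd_pow h4))))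
    rcases (hp.dvd_mul.1 h4) with h4 | h4
    · exact Or.inr (Or.inr (Or.inr (Or.inl ((Nat.prime_dvd_prime_iff_eq hp (by norm_num)).1 h4))))
    · exact Or.inr (Or.inr (Or.inr (Or.inr ((Nat.prime_dvd_prime_iff_eq hp (by norm_num)).1 h4))))
  have hodd : ∀ i, r i ≠ 2 → x i ∈ N := fun i hi =>
    mem_N_of_odd hR ((hx.prime i).odd_of_ne_two hi) (hx.pow i)
  have hsum := cov_le N hc ω
  rw [sum_Tp N ω _ hP] at hsum
  have e5 : ∑ p ∈ ({2, 3, 5, 7, 11} : Finset ℕ), Tp N ω x r p =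
      Tp N ω x r 2 + (Tp N ω x r 3 + (Tp N ω x r 5 + (Tp N ω x r 7 + Tp N ω x r 11))) := by
    rw [Finset.sum_insert (by decide), Finset.sum_insert (by decide), Finset.sum_insert (by decide),
      Finset.sum_insert (by decide), Finset.sum_singleton]
  rw [e5] at hsum
  -- bounds
  have b3 : 7 * Tp N ω x r 3 ≤ No N ω + 42 := by
    by_cases h : ∃ i, r i = 3
    · obtain ⟨i, hi⟩ := h
      rw [← hi, Tp_eq N ω hx.inj i]
      exact F3 hS hR ω (hodd i (by omega)) (by rw [← hi]; exact hx.pow i) (hx.ne i)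
    · push Not at h
      rw [Tp_zero N ω h]; omega
  have b5 : 2 * Tp N ω x r 5 ≤ No N ω + 11 := by
    by_cases h : ∃ i, r i = 5
    · obtain ⟨i, hi⟩ := h
      rw [← hi, Tp_eq N ω hx.inj i]
      exact F5 hS hR ω (hodd i (by omega)) (by rw [← hi]; exact hx.pow i) (hx.ne i)
    · push Not at h
      rw [Tp_zero N ω h]; omega
  have b7 : Tp N ω x r 7 ≤ 7 := by
    by_cases h : ∃ i, r i = 7
    · obtain ⟨i, hi⟩ := h
      rw [← hi, Tp_eq N ω hx.inj i, hi]
      exact F7 hS ω (hodd i (by omega)) (by rw [← hi]; exact hx.pow i) (hx.ne i)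
    · push Not at h
      rw [Tp_zero N ω h]; omega
  have b11 : Tp N ω x r 11 ≤ 11 := by
    by_cases h : ∃ i, r i = 11
    · obtain ⟨i, hi⟩ := h
      rw [← hi, Tp_eq N ω hx.inj i, hi]
      exact F11 hS ω (hodd i (by omega)) (by rw [← hi]; exact hx.pow i) (hx.ne i)
    · push Not at h
      rw [Tp_zero N ω h]; omega
  -- an element of order 7 or 11 commutes with no other element of odd order
  have hexcl : ∀ i, (r i = 7 ∨ r i = 11) → ∀ j, j ≠ i → r j = 2 := by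
    intro i hi j hj
    by_contra hj2
    have hcard : Nat.card ↥(N ⊓ centralizer ({x i} : Set G)) = r i := by
      rcases hi with hi | hi
      · rw [hi]; exact card7 hS (hodd i (by omega)) (by rw [← hi]; exact hx.pow i) (hx.ne i)
      · rw [hi]; exact card11 hS (hodd i (by omega)) (by rw [← hi]; exact hx.pow i) (hx.ne i)
    have hmem : x j ∈ N ⊓ centralizer ({x i} : Set G) :=
      ⟨hodd j hj2, mem_centralizer_singleton_iff.2 (hx.comm j i)⟩
    have h1 : orderOf (x j) ∣ r i := by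
      rw [← hcard, ← Subgroup.orderOf_mk (x j) hmem]
      exact orderOf_dvd_natCard _
    rw [hord] at h1
    exact hj (hx.inj ((Nat.prime_dvd_prime_iff_eq (hx.prime j) (hx.prime i)).1 h1))
  -- the involution
  have b2 : Tp N ω x r 2 = 0 ∨ (∃ i, r i = 2 ∧ x i ∈ N ∧ ∃ u, 5 * Tp N ω x r 2 ≤ No N ω + 4 * u ∧ 11 * u ≤ No N ω + 110) ∨
      7 * Tp N ω x r 2 ≤ No N ω + 42 ∨ (∃ i, r i = 2 ∧ (∃ u, 3 * Tp N ω x r 2 ≤ No N ω + 2 * u ∧ 7 * u ≤ No N ω + 42) ∧
        ∃ g ∈ autG 100 adjA, ρ (x i) = g * Z * g⁻¹) := by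
    by_cases h : ∃ i, r i = 2
    · obtain ⟨i, hi⟩ := h
      have h2 : x i * x i = 1 := by rw [← pow_two, ← hi]; exact hx.pow i
      have h3 : Tp N ω x r 2 = Fo N ω (x i) := by rw [← hi, Tp_eq N ω hx.inj i]
      rw [h3]
      right
      rcases F2 hS hR ω h2 (hx.ne i) with ⟨h4, h5⟩ | h4 | ⟨h4, h5⟩
      · exact Or.inl ⟨i, hi, h4, h5⟩
      · exact Or.inr (Or.inl h4)
      · exact Or.inr (Or.inr ⟨i, hi, h4, h5⟩)
    · push Not at h
      exact Or.inl (Tp_zero N ω h)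
  have hb2 : 44 * Tp N ω x r 2 ≤ 21 * No N ω + 352 := by
    rcases b2 with h | ⟨-, -, -, u, h, h'⟩ | h | ⟨-, -, ⟨u, h, h'⟩, -⟩ <;> omega
  by_cases h7 : ∃ i, r i = 7
  · obtain ⟨i, hi⟩ := h7
    have z : ∀ p, p ≠ 2 → p ≠ 7 → Tp N ω x r p = 0 := fun p hp hp7 => Tp_zero N ω fun j hj => by
      have hji : j ≠ i := by rintro rfl; omega
      exact hp (hj.symm.trans (hexcl i (Or.inl hi) j hji))
    rw [z 3 (by norm_num) (by norm_num), z 5 (by norm_num) (by norm_num), z 11 (by norm_num) (by norm_num)] at hsum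
    omega
  by_cases h11 : ∃ i, r i = 11
  · obtain ⟨i, hi⟩ := h11
    have z : ∀ p, p ≠ 2 → p ≠ 11 → Tp N ω x r p = 0 := fun p hp hp7 => Tp_zero N ω fun j hj => by
      have hji : j ≠ i := by rintro rfl; omega
      exact hp (hj.symm.trans (hexcl i (Or.inr hi) j hji))
    rw [z 3 (by norm_num) (by norm_num), z 5 (by norm_num) (by norm_num), z 7 (by norm_num) (by norm_num)] at hsum
    omega
  push Not at h7 h11
  rw [Tp_zero N ω h7, Tp_zero N ω h11] at hsum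
  rcases b2 with h | ⟨i, hi, hiN, u, h, h'⟩ | h | ⟨i, hi, ⟨u, h, h'⟩, g, hg, hgt⟩
  · omega
  · -- type 2A
    by_cases h3 : ∃ j, r j = 3
    · by_cases h5 : ∃ k, r k = 5
      · obtain ⟨j, hj⟩ := h3
        obtain ⟨k, hk⟩ := h5
        exact no30 hS hR hiN (hodd j (by omega)) (hodd k (by omega)) (by rw [← hi]; exact hx.pow i) (hx.ne i)
          (by rw [← hj]; exact hx.pow j) (hx.ne j) (by rw [← hk]; exact hx.pow k) (hx.ne k) (hx.comm i j) (hx.comm i k)
          (hx.comm j k)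
      · push Not at h5
        rw [Tp_zero N ω h5] at hsum
        omega
    · push Not at h3
      rw [Tp_zero N ω h3] at hsum
      omega
  · omega
  · -- type 2C
    by_cases h5 : ∃ k, r k = 5
    · obtain ⟨k, hk⟩ := h5
      have hkN := hodd k (by omega)
      have hki : k ≠ i := by rintro rfl; omega
      -- the element of order 3, if any
      obtain ⟨s, hsN, hs3, hsk, hsi, hsj⟩ : ∃ s ∈ N, s ^ 3 = 1 ∧ x k * s = s * x k ∧ s * x i = x i * s ∧
          ∀ j, r j = 3 → x j = s := by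
        by_cases h3 : ∃ j, r j = 3
        · obtain ⟨j, hj⟩ := h3
          exact ⟨x j, hodd j (by omega), by rw [← hj]; exact hx.pow j, hx.comm k j, hx.comm j i, fun j' hj' => by
            rw [hx.inj (hj'.trans hj.symm)]⟩
        · push Not at h3
          exact ⟨1, one_mem _, one_pow _, by rw [mul_one, one_mul], by rw [mul_one, one_mul], fun j hj =>
            absurd hj (h3 j)⟩
      obtain ⟨c', hc', g1, g2, g3, g4⟩ := r5_spec hg hgt ((hR.mem _).2 hkN) ((hR.mem _).2 hsN)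
        (by rw [← map_pow, ← hk, hx.pow, map_one]) (fun h => hx.ne k (hR.inj (by rw [h, map_one])))
        (by rw [← map_pow, hs3, map_one]) (by rw [← map_mul, ← map_mul, hsk])
        (by rw [← map_mul, ← map_mul, hx.comm]) (by rw [← map_mul, ← map_mul, hsi])
      obtain ⟨c, hcN, rfl⟩ := hR.surj c' hc'
      have k1 : c * x i = x i * c := hR.inj (by rw [map_mul, map_mul, g1])
      have k2 : c * s = s * c := hR.inj (by rw [map_mul, map_mul, g2])
      set y := x k * (c * x k * c⁻¹) with hy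
      have hyρ : ρ y = ρ (x k) * (ρ c * ρ (x k) * (ρ c)⁻¹) := by rw [hy]; simp only [map_mul, map_inv]
      rw [← hyρ] at g3 g4
      have hyN : y ∈ N := mul_mem hkN (mul_mem (mul_mem hcN hkN) (inv_mem hcN))
      have hy3 : y ^ 3 = 1 := hR.inj (by rw [map_pow, g3, map_one])
      have hy1 : y ≠ 1 := fun h => g4 (by rw [h, map_one])
      have hcc : ∀ j, j ≠ k → c * x j = x j * c := by
        intro j hjk
        have h6 := hP j
        simp only [Finset.mem_insert, Finset.mem_singleton] at h6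
        rcases h6 with h6 | h6 | h6 | h6 | h6
        · rw [hx.inj (h6.trans hi.symm)]; exact k1
        · rw [hsj j h6]; exact k2
        · exact absurd (hx.inj (h6.trans hk.symm)) hjk
        · exact absurd h6 (h7 j)
        · exact absurd h6 (h11 j)
      have hcov' := hc.mv k (y := y) (mul_mem (subset_closure ⟨1, fun j _ => by rw [one_mul, mul_one], by group⟩)
        (subset_closure ⟨c, hcc, rfl⟩))
      have hs' := cov_le N hcov' ω
      have e1 : ∑ j, Fo N ω (Function.update x k y j) = Fo N ω y + ∑ j ∈ Finset.univ.erase k, Fo N ω (x j) := by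
        rw [← Finset.add_sum_erase _ _ (Finset.mem_univ k), Function.update_self]
        congr 1
        refine Finset.sum_congr rfl fun j hj => ?_
        rw [Function.update_of_ne (Finset.ne_of_mem_erase hj)]
      have e2 : ∑ j, Fo N ω (x j) = Fo N ω (x k) + ∑ j ∈ Finset.univ.erase k, Fo N ω (x j) :=
        (Finset.add_sum_erase _ _ (Finset.mem_univ k)).symm
      have e3 : ∑ j, Fo N ω (x j) = Tp N ω x r 2 + (Tp N ω x r 3 + (Fo N ω (x k) + (0 + 0))) := by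
        rw [sum_Tp N ω _ hP, e5, Tp_zero N ω h7, Tp_zero N ω h11, ← hk, Tp_eq N ω hx.inj k]
      have e4 := F3 hS hR ω hyN hy3 hy1
      rw [e1] at hs'
      omega
    · push Not at h5
      rw [Tp_zero N ω h5] at hsum
      omega

end Cfsg.Agent.H344.RR.HSF
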