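import Cfsg.Agent.H344.RR.HSFin
import Cfsg.Agent.H867.RG.SporOf

/-!
# S3509: `HS` as a row of the dispatcher (helper344)
-/

namespace Cfsg.Agent.H344.RR

open Cfsg.Agent.H873.RG

/-- **the row `HS`** -/
theorem row_hs : RowX (fun S _ => Cfsg.Spor.IsoHS S) :=
  Cfsg.Agent.H867.RG.RowX.of_simple fun _ _ _ hs hn h => HSF.rc_hs hs hn h

end Cfsg.Agent.H344.RR
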